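import Groth.Agent.H9Bertini.Reduced

/-!
# Elements with reduced quotient in a radical ideal
-/

set_option autoImplicit false
set_option linter.style.haveILetI false

universe u

open IsLocalRing

noncomputable section

namespace Groth.Agent.H9Bertini

variable {R : Type u} [CommRing R] [IsDomain R] [IsNoetherianRing R]

/-- Improving an element: same components, each simple where it was not. -/
theorem exists_improve [IsIntegrallyClosed R] [IsLocalRing R] {J : Ideal R} (hJ : J.IsRadical) (hJ0 : J ≠ ⊥)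
    {a : Ideal R} (ha : ∀ (P : Ideal R) [P.IsPrime], P.height = 1 → ¬ a ≤ P) {f : R} (hf : f ≠ 0) :
    ∃ h ∈ J ⊓ a, ∀ (P : Ideal R) [P.IsPrime], P.height = 1 → f ∈ P →
      f + h ∈ P ∧ f + h ∉ symb2 P := by
  classical
  let All := (Ideal.finite_minimalPrimes_of_isNoetherianRing R (Ideal.span {f})).toFinset
  let Jm := (Ideal.finite_minimalPrimes_of_isNoetherianRing R J).toFinset
  have hAll : ∀ P, P ∈ All → P.IsPrime ∧ P.height = 1 := fun P hP => by
    rw [Set.Finite.mem_toFinset] at hP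
    exact ⟨hP.isPrime, height_eq_one_of_mem_minimalPrimes hf hP⟩
  -- the correction at a single prime
  have hone : ∀ P ∈ All, ∃ g ∈ J ⊓ a, g ∈ P ∧ (∀ [P.IsPrime], g ∉ symb2 P) ∧ ∀ P' ∈ All, P' ≠ P → g ∈ P' ^ 2 := by
    intro P hP
    obtain ⟨hPp, hP1⟩ := hAll P hP
    haveI := hPp
    have hnle : ¬ a * (∏ P' ∈ All.erase P, P' ^ 2) * (∏ Q ∈ Jm.erase P, Q) ≤ P := by
      rw [hPp.mul_le, hPp.mul_le, hPp.prod_le, hPp.prod_le]
      rintro ((h | ⟨P', hP', h⟩) | ⟨Q, hQ, h⟩)
      · exact ha P hP1 h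
      · obtain ⟨hne, hP'⟩ := Finset.mem_erase.mp hP'
        obtain ⟨hP'p, hP'1⟩ := hAll P' hP'
        haveI := hP'p
        exact hne (eq_of_le_of_height_one hP1
          (fun h0 => by simp [h0] at hP'1) ((hPp.pow_le_iff two_ne_zero).mp h))
      · obtain ⟨hne, hQ⟩ := Finset.mem_erase.mp hQ
        rw [Set.Finite.mem_toFinset] at hQ
        haveI := hQ.isPrime
        exact hne (eq_of_le_of_height_one hP1 (fun h0 => hJ0 (le_bot_iff.mp (h0 ▸ hQ.le))) h)
    obtain ⟨s, hs, hsP⟩ := SetLike.not_le_iff_exists.mp hnle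
    obtain ⟨π, hπ, hπ2⟩ := exists_mem_notMem_symb2 P hP1
    have hsa : s ∈ a := Ideal.mul_le_left (I := a) (Ideal.mul_le_left hs)
    have hsAll : ∀ P' ∈ All, P' ≠ P → s ∈ P' ^ 2 := fun P' hP' hne =>
      Ideal.le_of_dvd (Finset.dvd_prod_of_mem _ (Finset.mem_erase.mpr ⟨hne, hP'⟩))
        (Ideal.mul_le_right (I := a) (Ideal.mul_le_left hs))
    have hsJ : ∀ Q ∈ Jm, Q ≠ P → s ∈ Q := fun Q hQ hne =>
      Ideal.le_of_dvd (Finset.dvd_prod_of_mem _ (Finset.mem_erase.mpr ⟨hne, hQ⟩)) (Ideal.mul_le_right hs)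
    refine ⟨s * π, ⟨?_, Ideal.mul_mem_right _ _ hsa⟩, Ideal.mul_mem_left _ _ hπ, fun {_} => mul_notMem_symb2 P hsP hπ2,
      fun P' hP' hne => Ideal.mul_mem_right _ _ (hsAll P' hP' hne)⟩
    have : s * π ∈ J.radical := by
      rw [← Ideal.sInf_minimalPrimes, Submodule.mem_sInf]
      intro Q hQ
      by_cases hQP : Q = P
      · exact hQP ▸ Ideal.mul_mem_left _ _ hπ
      · exact Ideal.mul_mem_right _ _ (hsJ Q ((Set.Finite.mem_toFinset _).mpr hQ) hQP)
    rwa [hJ.radical] at this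
  choose g hg hgP hgS hgO using hone
  let T := All.filter fun P => ∀ hP : P.IsPrime, f ∈ @symb2 R _ P hP
  refine ⟨∑ P ∈ T.attach, g P.1 (Finset.mem_of_mem_filter _ P.2),
    Submodule.sum_mem _ (fun P _ => hg _ _), fun P _ hP1 hfP => ?_⟩
  have hPA : P ∈ All := (Set.Finite.mem_toFinset _).mpr (mem_minimalPrimes_of_height_one hf hP1 hfP)
  have hsum2 : ∀ P' : T, P'.1 ≠ P → g P'.1 (Finset.mem_of_mem_filter _ P'.2) ∈ symb2 P := fun P' hne =>
    sq_le_symb2 P (hgO _ _ P hPA (Ne.symm hne))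
  refine ⟨add_mem hfP (Submodule.sum_mem _ fun P' _ => ?_), fun hcon => ?_⟩
  · by_cases hne : P'.1 = P
    · obtain ⟨P', hP'⟩ := P'
      subst hne
      exact hgP _ _
    · exact Ideal.pow_le_self two_ne_zero (hgO _ _ P hPA (Ne.symm hne))
  by_cases hPT : P ∈ T
  · have hfS : f ∈ symb2 P := (Finset.mem_filter.mp hPT).2 ‹_›
    rw [Ideal.add_mem_iff_right _ hfS] at hcon
    rw [← Finset.add_sum_erase _ _ (Finset.mem_attach _ ⟨P, hPT⟩)] at hcon
    refine @hgS P hPA ‹_› ?_
    rw [Ideal.add_mem_iff_left] at hcon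
    · exact hcon
    · exact Submodule.sum_mem _ fun P' hP' => hsum2 P' fun h => (Finset.mem_erase.mp hP').1 (Subtype.ext h)
  · rw [Ideal.add_mem_iff_left _ (Submodule.sum_mem _ fun P' _ => hsum2 P' fun h => hPT (h ▸ P'.2))] at hcon
    exact hPT (Finset.mem_filter.mpr ⟨hPA, fun _ => hcon⟩)

/-- The components of the deformations of `f₀` are bounded. -/
theorem exists_bound [IsLocalRing R] (hc : CAlg.IsCatenary R) {k : ℕ} (hk : ringKrullDim R = (k + 1 : ℕ))
    {f₀ : R} (hf₀ : f₀ ≠ 0) (hf₀m : f₀ ∈ maximalIdeal R) :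
    ∃ (a : Ideal R) (c L : ℕ), maximalIdeal R ^ c ≤ a ∧
      ∀ f, f - f₀ ∈ a → f ≠ 0 → (Ideal.span {f}).minimalPrimes.ncard ≤ L := by
  classical
  haveI : IsLocalRing (R ⧸ Ideal.span {f₀}) := by
    haveI : Nontrivial (R ⧸ Ideal.span {f₀}) := Ideal.Quotient.nontrivial_iff.mpr fun h =>
      (maximalIdeal.isMaximal R).ne_top (top_le_iff.mp (h ▸ (Ideal.span_singleton_le_iff_mem _).mpr hf₀m))
    exact .of_surjective' _ Ideal.Quotient.mk_surjective
  have hequi : EGA4.IsEquidim R := by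
    intro P hP
    rw [IsDomain.minimalPrimes_eq_singleton_bot, Set.mem_singleton_iff] at hP
    rw [hP]
    exact ringKrullDim_eq_of_ringEquiv (RingEquiv.quotientBot R)
  have hdimP : ∀ {f : R}, f ≠ 0 → ∀ P ∈ (Ideal.span {f}).minimalPrimes, ringKrullDim (R ⧸ P) = k := by
    intro f hf P hP
    haveI := hP.isPrime
    obtain ⟨n, hn⟩ := H05EGA4.exists_nat_dim_quotient_eq P
    have h1 := H05EGA4.height_add_dim_eq_of_isEquidim hc hequi P
    rw [height_eq_one_of_mem_minimalPrimes hf hP, hn, hk] at h1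
    have h2 : 1 + n = k + 1 := by exact_mod_cast h1
    rw [hn]; congr 1; omega
  obtain ⟨s, hs, hscard⟩ := Ideal.exists_finset_card_eq_height_of_isNoetherianRing (maximalIdeal (R ⧸ Ideal.span {f₀}))
  have hcard : s.card ≤ k := by
    have h1 : ringKrullDim (R ⧸ Ideal.span {f₀}) ≤ k :=
      H05EGA4.ringKrullDim_quotient_le_of_minimalPrimes _ fun P hP => (hdimP hf₀ P hP).le
    rw [← IsLocalRing.maximalIdeal_height_eq_ringKrullDim, ← hscard] at h1
    exact_mod_cast h1
  choose l hl using fun z : R ⧸ Ideal.span {f₀} => Ideal.Quotient.mk_surjective z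
  let x : Fin k → R := fun j => if h : (j : ℕ) < s.card then l (s.equivFin.symm ⟨j, h⟩) else 0
  have hxm : ∀ j, x j ∈ maximalIdeal R := by
    intro j
    by_cases h : (j : ℕ) < s.card
    · simp only [x, dif_pos h]
      by_contra hn
      have hu : IsUnit (l (s.equivFin.symm ⟨j, h⟩)) := by simpa using hn
      have := hs.le (Ideal.subset_span (s.equivFin.symm ⟨j, h⟩).2)
      rw [← hl (s.equivFin.symm ⟨j, h⟩), mem_maximalIdeal] at this
      exact this (hu.map _)
    · simp only [x, dif_neg h]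
      exact zero_mem _
  let q := Ideal.span {f₀} ⊔ Ideal.span (Set.range x)
  have hsle : Ideal.span (s : Set (R ⧸ Ideal.span {f₀})) ≤ q.map (Ideal.Quotient.mk _) := by
    refine Ideal.span_le.mpr fun z hz => ?_
    have h : ((s.equivFin ⟨z, hz⟩ : Fin s.card) : ℕ) < k := lt_of_lt_of_le (Fin.is_lt _) hcard
    have hxz : x ⟨_, h⟩ = l z := by
      simp only [x, dif_pos (Fin.is_lt _)]
      simp
    rw [SetLike.mem_coe, ← hl z, ← hxz]
    exact Ideal.mem_map_of_mem _ (Submodule.mem_sup_right (Ideal.subset_span ⟨_, rfl⟩))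
  haveI : IsArtinianRing (R ⧸ q) := by
    have hrad : ∀ P : Ideal R, P.IsPrime → q ≤ P → P.IsMaximal := by
      intro P hP hqP
      haveI := hP
      have hfP : Ideal.span {f₀} ≤ P := le_sup_left.trans hqP
      haveI : (P.map (Ideal.Quotient.mk (Ideal.span {f₀}))).IsPrime :=
        Ideal.isPrime_map_quotientMk_of_isPrime hfP
      have h1 : maximalIdeal _ ≤ P.map (Ideal.Quotient.mk (Ideal.span {f₀})) :=
        hs.2 ⟨inferInstance, hsle.trans (Ideal.map_mono hqP)⟩ (le_maximalIdeal Ideal.IsPrime.ne_top')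
      have h2 : maximalIdeal R ≤ P := fun z hz => by
        have h3 := h1 (show Ideal.Quotient.mk _ z ∈ maximalIdeal _ from fun hu => (mem_maximalIdeal z).mp hz
          (haveI := IsLocalHom.of_surjective (Ideal.Quotient.mk (Ideal.span {f₀})) Ideal.Quotient.mk_surjective
           isUnit_of_map_unit (Ideal.Quotient.mk (Ideal.span {f₀})) z hu))
        rwa [← Ideal.mem_comap, Ideal.comap_map_of_surjective _ Ideal.Quotient.mk_surjective,
          ← RingHom.ker_eq_comap_bot, Ideal.mk_ker, sup_eq_left.mpr hfP] at h3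
      rw [(le_maximalIdeal hP.ne_top).antisymm h2]; infer_instance
    rw [isArtinianRing_iff_krullDimLE_zero]
    refine Ring.KrullDimLE.mk₀ fun Q hQ => ?_
    haveI := hQ
    haveI := hrad _ (Ideal.IsPrime.comap (K := Q) (Ideal.Quotient.mk q))
      (Ideal.mk_ker.ge.trans (Ideal.ker_le_comap _))
    rw [← Ideal.map_comap_of_surjective _ Ideal.Quotient.mk_surjective Q]
    exact Ideal.IsMaximal.map_of_surjective_of_ker_le Ideal.Quotient.mk_surjective
      (Ideal.ker_le_comap _)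
  obtain ⟨c, hc'⟩ := IsLocalRing.exists_maximalIdeal_pow_le_of_isArtinianRing_quotient q
  refine ⟨maximalIdeal R * q, c + 1, (Module.length R (R ⧸ q)).toNat,
    (pow_succ' _ c).trans_le (Ideal.mul_mono_right hc'), fun f hf hf0 => ?_⟩
  have hfq : f ∈ q := by
    have h1 : f - f₀ ∈ q := Ideal.mul_le_right hf
    simpa using add_mem h1 (Submodule.mem_sup_left (Ideal.mem_span_singleton_self f₀) : f₀ ∈ q)
  have hq : Ideal.span {f} ⊔ Ideal.span (Set.range x) = q := by
    refine le_antisymm (sup_le ((Ideal.span_singleton_le_iff_mem _).mpr hfq) le_sup_right) ?_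
    refine Submodule.le_of_le_smul_of_le_jacobson_bot (IsNoetherian.noetherian q)
      (maximalIdeal_le_jacobson ⊥) ?_
    refine sup_le ((Ideal.span_singleton_le_iff_mem _).mpr ?_) (le_sup_of_le_left le_sup_right)
    have : f₀ = f - (f - f₀) := (sub_sub_cancel f f₀).symm
    rw [this]
    exact sub_mem (Submodule.mem_sup_left (Submodule.mem_sup_left (Ideal.mem_span_singleton_self f)))
      (Submodule.mem_sup_right (by rwa [smul_eq_mul]))
  have hfm : f ∈ maximalIdeal R := (sup_le ((Ideal.span_singleton_le_iff_mem _).mpr hf₀m)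
    (Ideal.span_le.mpr (Set.range_subset_iff.mpr hxm)) : q ≤ maximalIdeal R) hfq
  let I := Ideal.span {f}
  let S := R ⧸ I
  haveI : IsLocalRing S := by
    haveI : Nontrivial S := Ideal.Quotient.nontrivial_iff.mpr fun h =>
      (maximalIdeal.isMaximal R).ne_top (top_le_iff.mp (h ▸ (Ideal.span_singleton_le_iff_mem _).mpr hfm))
    exact .of_surjective' _ Ideal.Quotient.mk_surjective
  let xS : Fin k → S := fun j => Ideal.Quotient.mk I (x j)
  have hlen : Module.length S (S ⧸ Ideal.span (Set.range xS)) = Module.length R (R ⧸ q) := by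
    rw [← Module.length_eq_of_surjective (S := R) (R := S) Ideal.Quotient.mk_surjective]
    have he : Ideal.span (Set.range xS) = (Ideal.span (Set.range x)).map (Ideal.Quotient.mk I) := by
      rw [Ideal.map_span, ← Set.range_comp]; rfl
    exact ((Ideal.quotientEquivAlgOfEq R he).trans ((DoubleQuot.quotQuotEquivQuotSupₐ R I _).trans
      (Ideal.quotientEquivAlgOfEq R hq))).toLinearEquiv.length_eq
  have hlt : Module.length R (R ⧸ q) ≠ ⊤ := by
    rw [Module.length_ne_top_iff, isFiniteLength_iff_isNoetherian_isArtinian]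
    exact ⟨inferInstance, isArtinian_of_surjective_algebraMap (R := R ⧸ q) Ideal.Quotient.mk_surjective⟩
  let T : Finset (Ideal R) := (Ideal.finite_minimalPrimes_of_isNoetherianRing R I).toFinset
  have hT : ∀ P ∈ T, P ∈ I.minimalPrimes := fun P hP => (Set.Finite.mem_toFinset _).mp hP
  let toS : T → PrimeSpectrum S := fun P => ⟨P.1.map (Ideal.Quotient.mk I),
    haveI := (hT _ P.2).isPrime; Ideal.isPrime_map_quotientMk_of_isPrime (hT _ P.2).le⟩
  have hinj : Function.Injective toS := fun P P' h => Subtype.ext (by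
    have := congrArg (fun Q : PrimeSpectrum S => Q.asIdeal.comap (Ideal.Quotient.mk I)) h
    simpa [toS, Ideal.comap_map_of_surjective _ Ideal.Quotient.mk_surjective, ← RingHom.ker_eq_comap_bot,
      Ideal.mk_ker, sup_eq_left.mpr (hT _ P.2).le, sup_eq_left.mpr (hT _ P'.2).le] using this)
  have hbound := card_topPrimes_le (H05EGA4.ringKrullDim_quotient_le_of_minimalPrimes I fun P hP => (hdimP hf0 P hP).le)
    xS (fun j => show Ideal.Quotient.mk I (x j) ∈ maximalIdeal S from fun hu => (mem_maximalIdeal (x j)).mp (hxm j)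
      (haveI := IsLocalHom.of_surjective (Ideal.Quotient.mk I) Ideal.Quotient.mk_surjective
       isUnit_of_map_unit (Ideal.Quotient.mk I) (x j) hu))
    (L := (Module.length R (R ⧸ q)).toNat) (by rw [hlen, ENat.natCast_toNat hlt])
    (T.attach.image toS) (fun p hp => by
      obtain ⟨P, -, rfl⟩ := Finset.mem_image.mp hp
      exact (H05EGA4.dimQuotQuot (hT _ P.2).le).trans (hdimP hf0 _ (hT _ P.2)))
  rw [Finset.card_image_of_injective _ hinj, Finset.card_attach] at hbound
  rwa [Set.ncard_eq_toFinset_card _ (Ideal.finite_minimalPrimes_of_isNoetherianRing R I)]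

/-- A radical ideal contains an element with reduced quotient. -/
theorem exists_reduced [IsIntegrallyClosed R] [IsLocalRing R] (hc : CAlg.IsCatenary R) {J : Ideal R}
    (hJ : J.IsRadical) (hJ0 : J ≠ ⊥) : ∃ f ∈ J, f ≠ 0 ∧ IsReduced (R ⧸ Ideal.span {f}) := by
  classical
  by_cases hJt : J = ⊤
  · haveI : Subsingleton (R ⧸ Ideal.span {(1 : R)}) := Ideal.Quotient.subsingleton_iff.mpr Ideal.span_singleton_one
    exact ⟨1, hJt ▸ trivial, one_ne_zero, inferInstance⟩
  have hJm : J ≤ maximalIdeal R := le_maximalIdeal hJt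
  obtain ⟨f₀, hf₀J, hf₀⟩ := Submodule.exists_mem_ne_zero_of_ne_bot hJ0
  obtain ⟨d, hd⟩ := H05EGA4.exists_nat_height_eq (maximalIdeal R)
  have hd0 : d ≠ 0 := by
    intro h0
    rw [h0, Nat.cast_zero, Ideal.height_eq_zero_iff, IsDomain.minimalPrimes_eq_singleton_bot, Set.mem_singleton_iff] at hd
    exact hJ0 (le_bot_iff.mp (hJm.trans hd.le))
  obtain ⟨k, rfl⟩ := Nat.exists_eq_succ_of_ne_zero hd0
  rcases Nat.eq_zero_or_pos k with rfl | hk
  · obtain ⟨π, hπ, hπ2⟩ := exists_mem_notMem_symb2 (maximalIdeal R) (by simpa using hd)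
    have hπ0 : π ≠ 0 := fun h0 => hπ2 (h0 ▸ zero_mem _)
    have hJeq : J = maximalIdeal R := by
      refine le_antisymm hJm fun z hz => ?_
      rw [← hJ.radical, ← Ideal.sInf_minimalPrimes, Submodule.mem_sInf]
      intro Q hQ
      haveI := hQ.isPrime
      rwa [eq_of_le_of_height_one (P := maximalIdeal R) (by simpa using hd)
        (fun h0 => hJ0 (le_bot_iff.mp (h0 ▸ hQ.le))) (le_maximalIdeal Ideal.IsPrime.ne_top')]
    refine ⟨π, hJeq ▸ hπ, hπ0, isReduced_quotient hπ0 fun P _ hP _ => ?_⟩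
    obtain rfl := eq_of_le_of_height_one (P := maximalIdeal R) (by simpa using hd)
      (fun h0 => by simp [h0] at hP) (le_maximalIdeal Ideal.IsPrime.ne_top' : P ≤ _)
    exact hπ2
  have hkdim : ringKrullDim R = (k + 1 : ℕ) := by
    rw [← IsLocalRing.maximalIdeal_height_eq_ringKrullDim, hd]; rfl
  obtain ⟨a, c, L, hma, hL⟩ := exists_bound hc hkdim hf₀ (hJm hf₀J)
  have ha : ∀ (P : Ideal R) [P.IsPrime], P.height = 1 → ¬ a ≤ P := by
    intro P hP hP1 hle
    have : maximalIdeal R ≤ P := fun z hz => hP.mem_of_pow_mem c (hle (hma (Ideal.pow_mem_pow hz c)))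
    obtain rfl := (le_maximalIdeal hP.ne_top).antisymm this
    rw [hP1] at hd
    have h1 : 1 = k + 1 := by exact_mod_cast hd
    omega
  let N : Set ℕ := {n | ∃ f ∈ J, f ≠ 0 ∧ f - f₀ ∈ a ∧ n = (Ideal.span {f}).minimalPrimes.ncard}
  have hNb : BddAbove N := ⟨L, by rintro n ⟨f, -, hf, hfa, rfl⟩; exact hL f hfa hf⟩
  obtain ⟨f, hfJ, hf, hfa, hmax⟩ := Nat.sSup_mem (s := N) ⟨_, f₀, hf₀J, hf₀, by simp, rfl⟩ hNb
  obtain ⟨h, ⟨hhJ, hha⟩, hh⟩ := exists_improve hJ hJ0 ha hf
  obtain ⟨P₀, hP₀, -⟩ := Ideal.exists_minimalPrimes_le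
    ((Ideal.span_singleton_le_iff_mem (maximalIdeal R)).mpr (hJm hfJ))
  haveI := hP₀.isPrime
  have hf' : f + h ≠ 0 := fun h0 => (hh P₀ (height_eq_one_of_mem_minimalPrimes hf hP₀)
    (hP₀.le (Ideal.mem_span_singleton_self f))).2 (h0 ▸ zero_mem _)
  have hsub : (Ideal.span {f}).minimalPrimes ⊆ (Ideal.span {f + h}).minimalPrimes := fun P hP =>
    haveI := hP.isPrime
    mem_minimalPrimes_of_height_one hf' (height_eq_one_of_mem_minimalPrimes hf hP)
      (hh P (height_eq_one_of_mem_minimalPrimes hf hP) (hP.le (Ideal.mem_span_singleton_self f))).1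
  have hmem : (Ideal.span {f + h}).minimalPrimes.ncard ∈ N :=
    ⟨f + h, add_mem hfJ hhJ, hf', by rw [add_sub_right_comm]; exact add_mem hfa hha, rfl⟩
  have heq := Set.eq_of_subset_of_ncard_le hsub (hmax ▸ le_csSup hNb hmem)
    (Ideal.finite_minimalPrimes_of_isNoetherianRing R _)
  refine ⟨f + h, add_mem hfJ hhJ, hf', isReduced_quotient hf' fun P _ hP1 hfhP => ?_⟩
  have hPf : P ∈ (Ideal.span {f}).minimalPrimes := heq ▸ mem_minimalPrimes_of_height_one hf' hP1 hfhP
  exact (hh P hP1 (hPf.le (Ideal.mem_span_singleton_self f))).2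

end Groth.Agent.H9Bertini
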