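import Groth.Agent.H9Bertini.TopPrimes
import Groth.Agent.H21NormExt.Valuation
import Groth.Agent.H05EGA4.Equidim

/-!
# Elements with reduced quotient in a radical ideal
-/

set_option autoImplicit false
set_option linter.style.haveILetI false

universe u

open IsLocalRing

noncomputable section

namespace Groth.Agent.H9Bertini

variable {R : Type u} [CommRing R] [IsDomain R] [IsNoetherianRing R]

/-- The second symbolic power. -/
def symb2 (P : Ideal R) [P.IsPrime] : Ideal R :=
  Ideal.comap (algebraMap R (Localization.AtPrime P)) (maximalIdeal (Localization.AtPrime P) ^ 2)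

theorem sq_le_symb2 (P : Ideal R) [P.IsPrime] : P ^ 2 ≤ symb2 P := by
  rw [symb2, ← Ideal.map_le_iff_le_comap, Ideal.map_pow]
  exact Ideal.pow_right_mono (Localization.AtPrime.map_eq_maximalIdeal (I := P)).le 2

theorem mul_notMem_symb2 (P : Ideal R) [P.IsPrime] {s a : R} (hs : s ∉ P) (ha : a ∉ symb2 P) :
    s * a ∉ symb2 P := by
  intro h
  rw [symb2, Ideal.mem_comap, map_mul] at h
  exact ha ((Ideal.unit_mul_mem_iff_mem _ (IsLocalization.map_units (Localization.AtPrime P) (⟨s, hs⟩ : P.primeCompl))).mp h)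

theorem eq_of_le_of_height_one {P Q : Ideal R} [P.IsPrime] [Q.IsPrime] (hP : P.height = 1) (hQ : Q ≠ ⊥)
    (h : Q ≤ P) : Q = P := by
  by_contra hne
  have h1 := Ideal.height_strict_mono_of_isPrime (lt_of_le_of_ne h hne)
  rw [hP, ENat.lt_one_iff_eq_zero, Ideal.height_eq_zero_iff, IsDomain.minimalPrimes_eq_singleton_bot,
    Set.mem_singleton_iff] at h1
  exact hQ h1

theorem height_eq_one_of_mem_minimalPrimes {f : R} (hf : f ≠ 0) {P : Ideal R}
    (hP : P ∈ (Ideal.span {f}).minimalPrimes) : P.height = 1 := by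
  haveI := hP.isPrime
  refine le_antisymm (Ideal.height_le_one_of_isPrincipal_of_mem_minimalPrimes _ P hP) ?_
  rw [ENat.one_le_iff_ne_zero, ne_eq, Ideal.height_eq_zero_iff, IsDomain.minimalPrimes_eq_singleton_bot,
    Set.mem_singleton_iff]
  exact fun h0 => hf (by simpa [h0] using hP.le (Ideal.mem_span_singleton_self f))

theorem mem_minimalPrimes_of_height_one {f : R} (hf : f ≠ 0) {P : Ideal R} [P.IsPrime] (hP : P.height = 1)
    (hfP : f ∈ P) : P ∈ (Ideal.span {f}).minimalPrimes := by
  refine ⟨⟨inferInstance, (Ideal.span_singleton_le_iff_mem P).mpr hfP⟩, fun Q hQ hle => ?_⟩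
  haveI := hQ.1
  exact (eq_of_le_of_height_one hP (fun h0 => hf (by
    have := hQ.2 (Ideal.mem_span_singleton_self f)
    rwa [h0, Ideal.mem_bot] at this)) hle).ge

variable [IsIntegrallyClosed R]

theorem exists_mem_notMem_symb2 (P : Ideal R) [P.IsPrime] (hP : P.height = 1) :
    ∃ π ∈ P, π ∉ symb2 P := by
  haveI := H21NormExt.isDVR_of_height_one P hP
  by_contra hcon
  push Not at hcon
  have h1 : maximalIdeal (Localization.AtPrime P) ≤ maximalIdeal (Localization.AtPrime P) ^ 2 := by
    conv_lhs => rw [← Localization.AtPrime.map_eq_maximalIdeal (I := P)]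
    exact Ideal.map_le_iff_le_comap.mpr hcon
  obtain ⟨τ, hτ⟩ := IsDiscreteValuationRing.exists_irreducible (Localization.AtPrime P)
  rw [hτ.maximalIdeal_eq, Ideal.span_singleton_pow, Ideal.span_singleton_le_span_singleton] at h1
  obtain ⟨c, hc⟩ := h1
  have h2 : τ * 1 = τ * (τ * c) := by rw [mul_one, ← mul_assoc, ← sq, ← hc]
  exact hτ.not_isUnit (IsUnit.of_mul_eq_one c (mul_left_cancel₀ hτ.ne_zero h2).symm)

/-- Reducedness of a principal quotient of a normal domain, checked in height one. -/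
theorem isReduced_quotient [IsLocalRing R] {f : R} (hf : f ≠ 0)
    (h : ∀ (P : Ideal R) [P.IsPrime], P.height = 1 → f ∈ P → f ∉ symb2 P) :
    IsReduced (R ⧸ Ideal.span {f}) := by
  have hS := (H1CAlg.normal_iff_R1_S2.mp fun (p : Ideal R) _ =>
    ⟨IsLocalization.isDomain_of_le_nonZeroDivisors _ p.primeCompl_le_nonZeroDivisors,
      isIntegrallyClosed_of_isLocalization _ p.primeCompl p.primeCompl_le_nonZeroDivisors⟩).2
  refine ⟨fun z ⟨n, hn⟩ => ?_⟩
  obtain ⟨g, rfl⟩ := Ideal.Quotient.mk_surjective z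
  rw [← map_pow, Ideal.Quotient.eq_zero_iff_mem] at hn
  rw [Ideal.Quotient.eq_zero_iff_mem, Ideal.mem_span_singleton]
  have hloc : ∀ (q : Ideal R) [q.IsPrime], q ≤ maximalIdeal R → q.height ≤ 1 → ∃ s ∉ q, f ∣ s * g := by
    intro q hqp _ hq1
    by_cases hfq : f ∈ q
    swap
    · exact ⟨f, hfq, dvd_mul_right f g⟩
    have hq0 : q ≠ ⊥ := fun h0 => hf (by rwa [h0, Ideal.mem_bot] at hfq)
    have hq : q.height = 1 := le_antisymm hq1 (by
      rw [ENat.one_le_iff_ne_zero, ne_eq, Ideal.height_eq_zero_iff, IsDomain.minimalPrimes_eq_singleton_bot,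
        Set.mem_singleton_iff]
      exact hq0)
    have hgq : g ∈ q := hqp.mem_of_pow_mem n (Ideal.span_le.mpr (Set.singleton_subset_iff.mpr hfq) hn)
    haveI := H21NormExt.isDVR_of_height_one q hq
    let Rq := Localization.AtPrime q
    have hfI : Irreducible (algebraMap R Rq f) := by
      obtain ⟨τ, hτ⟩ := IsDiscreteValuationRing.exists_irreducible Rq
      have h1 : algebraMap R Rq f ∈ maximalIdeal Rq := (IsLocalization.AtPrime.to_map_mem_maximal_iff Rq q f).mpr hfq
      rw [hτ.maximalIdeal_eq, Ideal.mem_span_singleton] at h1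
      obtain ⟨c, hc⟩ := h1
      have hcu : IsUnit c := by
        by_contra hn'
        refine h q hq hfq ?_
        rw [symb2, Ideal.mem_comap, hc, sq]
        exact Ideal.mul_mem_mul (hτ.maximalIdeal_eq ▸ Ideal.mem_span_singleton_self τ) hn'
      rw [hc]
      exact (associated_mul_unit_right τ c hcu).irreducible hτ
    have h2 : algebraMap R Rq g ∈ maximalIdeal Rq := (IsLocalization.AtPrime.to_map_mem_maximal_iff Rq q g).mpr hgq
    rw [hfI.maximalIdeal_eq, Ideal.mem_span_singleton] at h2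
    obtain ⟨c, hc⟩ := h2
    obtain ⟨⟨a, t⟩, ha⟩ := IsLocalization.surj q.primeCompl c
    refine ⟨t, t.2, a, IsLocalization.injective Rq q.primeCompl_le_nonZeroDivisors ?_⟩
    rw [map_mul, map_mul, hc, ← ha]
    ring
  obtain ⟨s, hs, hfs⟩ := H1CAlg.exists_dvd_of_height_le_one hS (maximalIdeal R) g f (fun q hq _ hfq => by
    have hm := H1CAlg.hasSk_one_self_iff.mp (H4Depth.hasSk_mono (by norm_num) hS) q hq
    rw [IsDomain.minimalPrimes_eq_singleton_bot, Set.mem_singleton_iff] at hm
    rw [hm, Ideal.mem_bot] at hfq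
    exact hf hfq) hloc
  have hu : IsUnit s := by
    rw [mem_maximalIdeal, mem_nonunits_iff, not_not] at hs
    exact hs
  exact (hu.dvd_mul_left).mp hfs

end Groth.Agent.H9Bertini
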