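import Groth.Agent.H22Alg.SamuelSum
import Groth.Agent.H02CA.SamuelBound
import Groth.Agent.S8169
import Groth.Agent.S3405
import Mathlib.Analysis.Polynomial.Basic

/-!
# A bound for the number of top-dimensional components
-/

set_option autoImplicit false
set_option linter.style.haveILetI false

universe u

open IsLocalRing Filter Topology Groth.Agent.H22Alg

noncomputable section

namespace Groth.Agent.H9Bertini

variable {S : Type u} [CommRing S] [IsNoetherianRing S] [IsLocalRing S]

/-- The multiplicity of a domain quotient of top dimension is at least one. -/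
theorem exists_mult {k : ℕ} (x : Fin k → S) (hx : ∀ j, x j ∈ maximalIdeal S)
    (hfl : Module.length S (S ⧸ Ideal.span (Set.range x)) ≠ ⊤) (p : PrimeSpectrum S)
    (hp : ringKrullDim (S ⧸ p.asIdeal) = k) :
    ∃ e : ℝ, 1 ≤ e ∧
      Tendsto (fun t : ℕ => (k.factorial : ℝ) * (samuelLen (Ideal.span (Set.range x)) (S ⧸ p.asIdeal) t : ℝ) / (t : ℝ) ^ k)
        atTop (𝓝 e) := by
  let I := Ideal.span (Set.range x)
  let M := S ⧸ p.asIdeal
  haveI : Nontrivial M := Ideal.Quotient.nontrivial_iff.mpr p.isPrime.ne_top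
  have hsd : Module.supportDim S M = (k : WithBot ℕ∞) := by
    rw [Module.supportDim_quotient_eq_ringKrullDim, hp]
  have hIle : I ≤ maximalIdeal S := Ideal.span_le.mpr (Set.range_subset_iff.mpr hx)
  have hflM : IsFiniteLength S (M ⧸ (I • (⊤ : Submodule S M))) := by
    rw [← Module.length_ne_top_iff]
    refine ne_top_of_le_ne_top hfl (Module.length_le_of_surjective
      (Submodule.mapQ I (I • (⊤ : Submodule S M)) (Submodule.mkQ p.asIdeal) ?_) ?_)
    · intro z hz
      show Submodule.mkQ p.asIdeal z ∈ I • (⊤ : Submodule S M)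
      rw [← mul_one z, ← smul_eq_mul, map_smul]
      exact Submodule.smul_mem_smul hz trivial
    · intro z
      obtain ⟨y, rfl⟩ := Submodule.mkQ_surjective _ z
      obtain ⟨w, rfl⟩ := Submodule.mkQ_surjective _ y
      exact ⟨Submodule.Quotient.mk w, rfl⟩
  obtain ⟨z, h8⟩ : ∃ z : ℤ, Tendsto (fun t : ℕ => (k.factorial : ℝ) * (samuelLen I M t : ℝ) / (t : ℝ) ^ k)
      atTop (𝓝 (z : ℝ)) := by
    refine ⟨H1Koszul.chi (List.ofFn x) M, ?_⟩
    have h := (H1Koszul.tendsto_samuel (H1Koszul.small_ofFn x hflM)).const_mul (k.factorial : ℝ)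
    rw [List.length_ofFn, H1Koszul.span_ofFn, mul_div_cancel₀ _ (Nat.cast_ne_zero.2 k.factorial_ne_zero)] at h
    exact h.congr fun n => (mul_div_assoc _ _ _).symm
  refine ⟨z, ?_, h8⟩
  obtain ⟨P, ⟨N, hN⟩, hdeg⟩ := Groth.Agent.S3405.result S M
  rw [hsd, IsLocalRing.ringJacobson_eq_maximalIdeal] at *
  have hdeg' : P.natDegree = k := by exact_mod_cast hdeg
  let Pr := P.map (Rat.castHom ℝ)
  have hP0 : P ≠ 0 := by
    intro h0
    obtain ⟨ℓ, hℓ, hℓ'⟩ := hN (N + 1) (Nat.le_succ N)
    rw [h0, Polynomial.eval_zero, Nat.cast_eq_zero] at hℓ'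
    rw [hℓ', Nat.cast_zero, Module.length_eq_zero_iff, Submodule.Quotient.subsingleton_iff] at hℓ
    exact Submodule.top_ne_ideal_smul_of_le_jacobson_annihilator
      ((Ideal.pow_le_self N.succ_ne_zero).trans (IsLocalRing.maximalIdeal_le_jacobson _)) hℓ.symm
  have hPr : Pr.degree = ((Polynomial.X : Polynomial ℝ) ^ k).degree := by
    rw [Polynomial.degree_map, Polynomial.degree_eq_natDegree hP0, hdeg', Polynomial.degree_X_pow]
  have hlim : Tendsto (fun n : ℕ => (k.factorial : ℝ) * (Pr.eval (n : ℝ) / (n : ℝ) ^ k)) atTop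
      (𝓝 ((k.factorial : ℝ) * Pr.leadingCoeff)) := by
    refine Tendsto.const_mul _ ?_
    have := (Polynomial.div_tendsto_atTop_leadingCoeff_div_of_degree_eq Pr _ hPr).comp tendsto_natCast_atTop_atTop
    simpa [Function.comp_def] using this
  have hle : ∀ᶠ n : ℕ in atTop, 0 ≤ (k.factorial : ℝ) * (Pr.eval (n : ℝ) / (n : ℝ) ^ k) ∧
      (k.factorial : ℝ) * (Pr.eval (n : ℝ) / (n : ℝ) ^ k) ≤
        (k.factorial : ℝ) * (samuelLen I M n : ℝ) / (n : ℝ) ^ k := by
    filter_upwards [eventually_ge_atTop N] with n hn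
    obtain ⟨ℓ, hℓ, hℓ'⟩ := hN n hn
    have hev : Pr.eval (n : ℝ) = (ℓ : ℝ) := by
      rw [← map_natCast (Rat.castHom ℝ) n, Polynomial.eval_map_apply, ← hℓ', map_natCast]
    rw [hev, mul_div_assoc]
    refine ⟨by positivity, ?_⟩
    gcongr
    have h1 := Module.length_le_of_surjective (Submodule.factor (Submodule.smul_mono (Ideal.pow_right_mono hIle n)
      (le_refl (⊤ : Submodule S M)))) (Submodule.factor_surjective _)
    rw [hℓ] at h1
    have hm : ∃ c : ℕ, maximalIdeal S ^ c ≤ I := by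
      haveI : IsArtinianRing (S ⧸ I) := by
        haveI := (isFiniteLength_iff_isNoetherian_isArtinian.mp (Module.length_ne_top_iff.mp hfl)).2
        exact isArtinian_of_tower S this
      exact IsLocalRing.exists_maximalIdeal_pow_le_of_isArtinianRing_quotient I
    rw [← samuelLen_cast hm] at h1
    exact_mod_cast h1
  have hlead : Pr.leadingCoeff ≠ 0 := Polynomial.leadingCoeff_ne_zero.mpr
    (Polynomial.map_ne_zero hP0)
  have h0 : 0 ≤ (k.factorial : ℝ) * Pr.leadingCoeff := ge_of_tendsto hlim (hle.mono fun n hn => hn.1)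
  have h1 : (k.factorial : ℝ) * Pr.leadingCoeff ≤ z := le_of_tendsto_of_tendsto hlim h8 (hle.mono fun n hn => hn.2)
  have h2 : 0 < (k.factorial : ℝ) * Pr.leadingCoeff :=
    lt_of_le_of_ne h0 (mul_ne_zero (Nat.cast_ne_zero.mpr k.factorial_ne_zero) hlead).symm
  have h3 : (0 : ℤ) < z := by exact_mod_cast h2.trans_le h1
  exact_mod_cast h3

/-- The number of components of top dimension is bounded by the length modulo a system of parameters. -/
theorem card_topPrimes_le {k : ℕ} (hdim : ringKrullDim S ≤ k) (x : Fin k → S) (hx : ∀ j, x j ∈ maximalIdeal S)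
    {L : ℕ} (hL : Module.length S (S ⧸ Ideal.span (Set.range x)) = L) (T : Finset (PrimeSpectrum S))
    (hT : ∀ p ∈ T, ringKrullDim (S ⧸ p.asIdeal) = k) : T.card ≤ L := by
  classical
  let I := Ideal.span (Set.range x)
  have hfl : Module.length S (S ⧸ I) ≠ ⊤ := by rw [hL]; exact ENat.natCast_ne_top L
  have hm : ∃ c : ℕ, maximalIdeal S ^ c ≤ I := by
    haveI : IsArtinianRing (S ⧸ I) := by
      haveI := (isFiniteLength_iff_isNoetherian_isArtinian.mp (Module.length_ne_top_iff.mp hfl)).2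
      exact isArtinian_of_tower S this
    exact IsLocalRing.exists_maximalIdeal_pow_le_of_isArtinianRing_quotient I
  have hex : ∀ p : PrimeSpectrum S, ∃ e : ℝ, ringKrullDim (S ⧸ p.asIdeal) = k → 1 ≤ e ∧
      Tendsto (fun t : ℕ => (k.factorial : ℝ) * (samuelLen I (S ⧸ p.asIdeal) t : ℝ) / (t : ℝ) ^ k) atTop (𝓝 e) := by
    intro p
    by_cases hp : ringKrullDim (S ⧸ p.asIdeal) = k
    · obtain ⟨e, he⟩ := exists_mult x hx hfl p hp
      exact ⟨e, fun _ => he⟩
    · exact ⟨0, fun h => absurd h hp⟩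
  choose e he using hex
  have hd : Module.supportDim S S ≤ k := by rwa [Module.supportDim_self_eq_ringKrullDim]
  have htend := tendsto_samuelLen_eq_finsum hm k e (fun p hp => (he p hp).2) S hd
  have hle := Groth.Agent.H02CA.SamuelBound.le_of_tendsto_samuel x L hL _ (by
    refine Tendsto.congr (fun t => ?_) htend
    rw [samuelLen, smul_eq_mul, Ideal.mul_top])
  have hfin : {p : PrimeSpectrum S | ringKrullDim (S ⧸ p.asIdeal) = k}.Finite :=
    (finite_top_support hd).subset fun p hp => ⟨Module.mem_support_iff'.mpr ⟨1, fun r hr h0 => by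
      rw [smul_eq_mul, mul_one] at h0; exact hr (h0 ▸ zero_mem _)⟩, hp⟩
  replace hle := (finsum_mem_eq_finite_toFinset_sum (fun p => locLenAt S p * e p) hfin).ge.trans hle
  have hterm : ∀ p : PrimeSpectrum S, ringKrullDim (S ⧸ p.asIdeal) = k → 1 ≤ locLenAt S p * e p := by
    intro p hp
    refine one_le_mul_of_one_le_of_one_le ?_ (he p hp).1
    rw [locLenAt_add p.asIdeal.subtype p.asIdeal.mkQ (Submodule.subtype_injective _) (Submodule.mkQ_surjective _)
      (LinearMap.exact_subtype_mkQ _) p (fun q hq hqp => eq_of_le_of_dim_eq hd hq hqp hp), locLenAt_quotient_self]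
    exact le_add_of_nonneg_left (Nat.cast_nonneg _)
  have hcard : (T.card : ℝ) ≤ (L : ℝ) := by
    refine le_trans ?_ hle
    calc (T.card : ℝ) ≤ (hfin.toFinset.card : ℝ) := Nat.cast_le.mpr (Finset.card_le_card fun p hp =>
          hfin.mem_toFinset.mpr (hT p hp))
      _ = ∑ p ∈ hfin.toFinset, (1 : ℝ) := by simp
      _ ≤ _ := Finset.sum_le_sum fun p hp => hterm p (hfin.mem_toFinset.mp hp)
  exact_mod_cast hcard

end Groth.Agent.H9Bertini
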